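import Mathlib
import Groth.Agent.H24.RadStrat.Asm

/-!
# S0170 squad (helper24): definitions

`f : Y ⟶ X`.  `TS0 f w` : over `w : W ⟶ X` there is a closed subscheme `Z` of `W ×_X Y` with the
same underlying space, finite étale over `W`.  `TS f w` : the same after a finite flat finitely
presented surjective base change `g : W' ⟶ W`.
-/

set_option autoImplicit false
universe u
open CategoryTheory CategoryTheory.Limits AlgebraicGeometry

namespace Groth.Agent.H24.QFStrat

/-- finite flat finitely presented surjective -/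
def QC : MorphismProperty Scheme.{u} := fun _ _ g =>
  IsFinite g ∧ Surjective g ∧ Flat g ∧ LocallyOfFinitePresentation g

/-- the one-level datum over `w : W ⟶ X` -/
def TS0 {Y X : Scheme.{u}} (f : Y ⟶ X) ⦃W : Scheme.{u}⦄ (w : W ⟶ X) : Prop :=
  ∃ (Z : Scheme.{u}) (z : Z ⟶ W) (σ : Z ⟶ Y) (hσ : z ≫ w = σ ≫ f),
    IsFinite z ∧ Etale z ∧ IsClosedImmersion (pullback.lift z σ hσ) ∧
      Surjective (pullback.lift z σ hσ)

/-- the two-level datum over `w : W ⟶ X` -/
def TS {Y X : Scheme.{u}} (f : Y ⟶ X) ⦃W : Scheme.{u}⦄ (w : W ⟶ X) : Prop :=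
  ∃ (W' : Scheme.{u}) (g : W' ⟶ W), QC g ∧ TS0 f (g ≫ w)

/-- the form of the limit piece, for a general predicate -/
def LimDescentR {Y : Scheme.{u}} (R : ∀ ⦃W : Scheme.{u}⦄, (W ⟶ Y) → Prop) : Prop :=
  ∀ {I : Type u} [SmallCategory I] [IsCofiltered I] (D : I ⥤ Scheme.{u}) (c : Cone D)
    (_ : IsLimit c) [∀ (i j : I) (a : i ⟶ j), IsAffineHom (D.map a)] [∀ i, CompactSpace (D.obj i)]
    [∀ i, QuasiSeparatedSpace (D.obj i)]
    (β : D ⟶ (Functor.const I).obj Y) (t : c.pt ⟶ Y) (_ : ∀ i, c.π.app i ≫ β.app i = t),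
    R t → ∃ i, R (β.app i)

end Groth.Agent.H24.QFStrat
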