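import Mathlib
import Groth.Agent.H24.QFStrat.Defs

/-!
# S0170 squad (helper24): the generic stratification (copy of `H24.RadStrat.exists_strata_of`
with an abstract predicate `R`)
-/

set_option autoImplicit false
universe u
open CategoryTheory CategoryTheory.Limits AlgebraicGeometry TopologicalSpace Topology
open Groth.Agent.H24 Groth.Agent.H24.RadStrat Groth.Agent.H24.ConsAtoms

namespace Groth.Agent.H24.QFStrat

/-- strata inside one atom -/
theorem exists_strata_atom {Y : Scheme.{u}} (R : ∀ ⦃W : Scheme.{u}⦄, (W ⟶ Y) → Prop) [CompactSpace Y]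
    [QuasiSeparatedSpace Y]
    (hBC : ∀ ⦃W V : Scheme.{u}⦄ (w : W ⟶ Y) (k : V ⟶ W), R w → R (k ≫ w))
    (hAFF : AffStrata.{u}) {L : Scheme.{u}} [IsAffine L] (z : L ⟶ Y) [IsImmersion z]
    [LocallyOfFinitePresentation z] [QuasiCompact z] (hz : R z)
    (U U' : Y.Opens) (hU : IsRetrocompact (U : Set Y)) (hU' : IsRetrocompact (U' : Set Y))
    (hsub : (U : Set Y) \ (U' : Set Y) ⊆ Set.range z) :
    ∃ (n : ℕ) (T : Fin n → Scheme.{u}) (e : ∀ i, T i ⟶ Y),
      (∀ i, IsAffine (T i) ∧ IsImmersion (e i) ∧ LocallyOfFinitePresentation (e i) ∧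
        QuasiCompact (e i)) ∧
      Pairwise (fun i j => Disjoint (Set.range (e i)) (Set.range (e j))) ∧
      (⋃ i, Set.range (e i)) = (U : Set Y) \ (U' : Set Y) ∧ ∀ i, R (e i) := by
  have h1 : IsCompact ((z ⁻¹ᵁ U : L.Opens) : Set L) :=
    QuasiCompact.isCompact_preimage (f := z) _ U.2 (isCompact_of_isRetrocompact hU)
  have h2 : IsCompact ((z ⁻¹ᵁ U' : L.Opens) : Set L) :=
    QuasiCompact.isCompact_preimage (f := z) _ U'.2 (isCompact_of_isRetrocompact hU')
  obtain ⟨n, T, g, hg, hdisj, hun⟩ := hAFF (z ⁻¹ᵁ U) (z ⁻¹ᵁ U') h1 h2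
  have hinj : Function.Injective z := z.isEmbedding.injective
  refine ⟨n, T, fun i => g i ≫ z, fun i => ?_, ?_, ?_, fun i => hBC z (g i) hz⟩
  · obtain ⟨a1, a2, a3, a4⟩ := hg i
    exact ⟨a1, inferInstance, inferInstance, inferInstance⟩
  · intro i j hij
    have := hdisj hij
    show Disjoint (Set.range (g i ≫ z)) (Set.range (g j ≫ z))
    rw [Scheme.Hom.comp_base, TopCat.coe_comp, Set.range_comp, Scheme.Hom.comp_base, TopCat.coe_comp,
      Set.range_comp]
    exact (Set.disjoint_image_iff hinj).mpr this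
  · have e1 : ∀ i, Set.range (g i ≫ z) = z '' Set.range (g i) := fun i => by
      rw [Scheme.Hom.comp_base, TopCat.coe_comp, Set.range_comp]
    simp_rw [e1]
    rw [← Set.image_iUnion, hun]
    show z '' (z ⁻¹' (U : Set Y) \ z ⁻¹' (U' : Set Y)) = _
    rw [← Set.preimage_sdiff, Set.image_preimage_eq_inter_range, Set.inter_eq_left.mpr hsub]

/-- the stratification, with all pieces as hypotheses -/
theorem exists_strata_gen {Y : Scheme.{u}} (R : ∀ ⦃W : Scheme.{u}⦄, (W ⟶ Y) → Prop)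
    [CompactSpace Y] [QuasiSeparatedSpace Y]
    (hPT : ∀ y : Y, R (Y.fromSpecResidueField y))
    (hBC : ∀ ⦃W V : Scheme.{u}⦄ (w : W ⟶ Y) (k : V ⟶ W), R w → R (k ≫ w))
    (hLIM : LimDescentR R) (hAFF : AffStrata.{u}) :
    ∃ (m : ℕ) (T : Fin m → Scheme.{u}) (e : ∀ i, T i ⟶ Y),
      (∀ i, IsAffine (T i) ∧ IsImmersion (e i) ∧ LocallyOfFinitePresentation (e i) ∧
        QuasiCompact (e i)) ∧
      Pairwise (fun i j => Disjoint (Set.range (e i)) (Set.range (e j))) ∧
      (⋃ i, Set.range (e i)) = Set.univ ∧ ∀ i, R (e i) := by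
  classical
  have hbc : ∀ ⦃W W' : Scheme.{u}⦄ (w : W ⟶ Y) (k : W' ⟶ W), R w → R (k ≫ w) :=
    fun W W' w k h => hBC w k h
  -- local immersions
  have hloc : ∀ y : Y, ∃ (L : Scheme.{u}) (z : L ⟶ Y), IsAffine L ∧ IsImmersion z ∧
      LocallyOfFinitePresentation z ∧ QuasiCompact z ∧ y ∈ Set.range ⇑z ∧ R z := by
    intro y
    obtain ⟨V, hV, hyV, -⟩ : ∃ V : Y.Opens, V ∈ Y.affineOpens ∧ y ∈ V ∧ V ≤ ⊤ :=
      TopologicalSpace.Opens.isBasis_iff_nbhd.mp Y.isBasis_affineOpens (U := ⊤) (x := y) trivial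
    obtain ⟨L, i, hLaff, h1, h2, h3, h4, l, hl⟩ :=
      IndConsImm.exists_fp_nhd_imm' R hbc (by
        intro I _ _ D c hc _ _ _ β t hβ h
        exact hLIM D c hc β t hβ h)
        V hV y hyV (hPT y)
    refine ⟨L, i ≫ V.ι, hLaff, inferInstance, inferInstance, inferInstance, ⟨l, ?_⟩, h4⟩
    rw [Scheme.Hom.comp_apply, hl]
    rfl
  choose L z h0 h1 h2 h3 h5 hRz using hloc
  have hcons : ∀ y, IsConstructible (Set.range ⇑(z y)) := fun y => by
    have := h2 y
    have := h3 y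
    have h := (z y).isConstructible_image (s := Set.univ) IsConstructible.univ
    rwa [Set.image_univ] at h
  obtain ⟨J, hJ⟩ := CDStrat.exists_finset_of_isConstructible_cover Y
    (fun y => Set.range ⇑(z y)) hcons (fun y => ⟨y, h5 y⟩)
  obtain ⟨𝒪, h𝒪, hsat⟩ := exists_sat_finite J (fun y => Set.range ⇑(z y))
    (fun y _ => hcons y)
  -- strata for each atom
  have hatom : ∀ S : Finset (Opens Y), S ⊆ 𝒪 → ∃ (n : ℕ) (T : Fin n → Scheme.{u})
      (e : ∀ i, T i ⟶ Y),
      (∀ i, IsAffine (T i) ∧ IsImmersion (e i) ∧ LocallyOfFinitePresentation (e i) ∧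
        QuasiCompact (e i)) ∧
      Pairwise (fun i j => Disjoint (Set.range (e i)) (Set.range (e j))) ∧
      (⋃ i, Set.range (e i)) = atom 𝒪 S ∧ ∀ i, R (e i) := by
    intro S hS
    by_cases hne : (atom 𝒪 S).Nonempty
    · obtain ⟨x, hx⟩ := hne
      obtain ⟨y0, hy0, hxy0⟩ := hJ x
      have hsub : atom 𝒪 S ⊆ Set.range ⇑(z y0) := atom_subset_of_sat (hsat y0 hy0) hx hxy0
      have := h0 y0
      have := h1 y0
      have := h2 y0
      have := h3 y0
      have hIn : IsRetrocompact ((atomIn S : Opens Y) : Set Y) :=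
        isRetrocompact_atomIn S (fun O hO => h𝒪 O (hS hO))
      have hOut : IsRetrocompact ((atomOut 𝒪 S : Opens Y) : Set Y) :=
        IsRetrocompact.biUnion (t := ((𝒪 \ S : Finset (Opens Y)) : Set (Opens Y)))
          (Finset.finite_toSet _) (fun O hO => h𝒪 O (Finset.mem_sdiff.mp hO).1)
      rw [atom_eq hS] at hsub ⊢
      exact exists_strata_atom R hBC hAFF (z y0) (hRz y0) (atomIn S) (atomOut 𝒪 S) hIn hOut hsub
    · refine ⟨0, fun i => i.elim0, fun i => i.elim0, fun i => i.elim0, fun i => i.elim0, ?_,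
        fun i => i.elim0⟩
      rw [Set.not_nonempty_iff_eq_empty.mp hne]
      simp
  choose n T e he1 he2 he3 he4 using hatom
  -- reindex by `Fin`
  let ι := Σ S : {S : Finset (Opens Y) // S ∈ 𝒪.powerset}, Fin (n S.1 (Finset.mem_powerset.mp S.2))
  let ε : ι ≃ Fin (Fintype.card ι) := Fintype.equivFin ι
  refine ⟨Fintype.card ι, fun k => T _ _ (ε.symm k).2, fun k => e _ _ (ε.symm k).2,
    fun k => he1 _ _ _, ?_, ?_, fun k => he4 _ _ _⟩
  · have key : ∀ p p' : ι, p ≠ p' →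
        Disjoint (Set.range ⇑(e _ _ p.2)) (Set.range ⇑(e _ _ p'.2)) := by
      rintro ⟨⟨S, hS⟩, a⟩ ⟨⟨S', hS'⟩, a'⟩ hne
      by_cases hSS' : S = S'
      · subst hSS'
        have haa' : a ≠ a' := fun h => hne (by rw [h])
        exact he2 _ _ haa'
      · have hd := atom_disjoint (Finset.mem_powerset.mp hS) (Finset.mem_powerset.mp hS') hSS'
        rw [← he3 S (Finset.mem_powerset.mp hS), ← he3 S' (Finset.mem_powerset.mp hS')] at hd
        exact (hd.mono_left (Set.subset_iUnion (fun i => Set.range ⇑(e S _ i)) a)).mono_right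
          (Set.subset_iUnion (fun i => Set.range ⇑(e S' _ i)) a')
    intro k k' hkk'
    exact key _ _ (fun h => hkk' (ε.symm.injective h))
  · rw [Set.eq_univ_iff_forall]
    intro x
    obtain ⟨S, hS, hx⟩ := exists_mem_atom 𝒪 x
    rw [← he3 S hS, Set.mem_iUnion] at hx
    obtain ⟨a, ha⟩ := hx
    have key2 : ∀ p : ι, Set.range ⇑(e _ _ p.2) ⊆ ⋃ k, Set.range ⇑(e _ _ (ε.symm k).2) := by
      intro p y hy
      have h := ε.symm_apply_apply p
      rw [Set.mem_iUnion]
      refine ⟨ε p, ?_⟩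
      rw [h]
      exact hy
    exact key2 ⟨⟨S, Finset.mem_powerset.mpr hS⟩, a⟩ ha

end Groth.Agent.H24.QFStrat
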