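import Mathlib
import Groth.Agent.H24.QFStrat.Defs
import Groth.Agent.H24.RadStrat.DescQ

/-!
# S0170 squad (helper24): `TS f` descends along limits, given that `TS0 f` does
-/

set_option autoImplicit false
universe u
open CategoryTheory CategoryTheory.Limits AlgebraicGeometry
open Groth.Agent.H24 Groth.Agent.H24.RadStrat

namespace Groth.Agent.H24.QFStrat

instance : QC.{u}.IsStableUnderBaseChange where
  of_isPullback := fun {_ _ _ _ _ _ _ _} sq hg =>
    ⟨MorphismProperty.of_isPullback (P := @IsFinite) sq hg.1,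
      MorphismProperty.of_isPullback (P := @Surjective) sq hg.2.1,
      MorphismProperty.of_isPullback (P := @Flat) sq hg.2.2.1,
      MorphismProperty.of_isPullback (P := @LocallyOfFinitePresentation) sq hg.2.2.2⟩

instance : QC.{u}.RespectsIso := by
  haveI : QC.{u}.IsStableUnderBaseChange := inferInstance
  infer_instance

theorem descends_QC : Descends QC.{u} :=
  descends_and _ _ descends_isFinite' (descends_and _ _ descends_surjective'
    (descends_and _ _ descends_flat' descends_lfp'))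

theorem stageDescent_QC : StageDescent QC.{u} :=
  stageDescent_of_descends QC descends_QC

/-- (LIM) -/
theorem TS_lim_of {Y X : Scheme.{u}} (f : Y ⟶ X) (h0 : LimDescentR (TS0 f)) :
    LimDescentR (TS f) := by
  intro I _ _ D c hc _ _ _ β t ht hTS
  obtain ⟨W', g, hQCg, hTS0⟩ := hTS
  have hAff : ∀ {i j : I} (a : i ⟶ j), IsAffineHom (D.map a) := fun a => inferInstance
  haveI : IsFinite g := hQCg.1
  have ig1 : LocallyOfFinitePresentation g := hQCg.2.2.2
  have ig2 : QuasiCompact g := inferInstance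
  have ig3 : QuasiSeparated g := inferInstance
  obtain ⟨i₁, P₁, p₁, q₁, sq₁, hp₁lfp, hp₁qc, hp₁qs, hQp₁⟩ := stageDescent_QC D c hc g hQCg
  haveI : CompactSpace P₁ := QuasiCompact.compactSpace_of_compactSpace p₁
  haveI : QuasiSeparatedSpace P₁ := quasiSeparatedSpace_of_quasiSeparated p₁
  have hc₁ := isLimitPbCone D (𝟙 i₁) p₁ c hc q₁ g sq₁
  haveI hcpt₁ : ∀ l, CompactSpace ((pbDiagram D (𝟙 i₁) p₁).obj l) :=
    compactSpace_pbDiagram_obj' D i₁ p₁
  haveI hqs₁ : ∀ l, QuasiSeparatedSpace ((pbDiagram D (𝟙 i₁) p₁).obj l) :=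
    quasiSeparatedSpace_pbDiagram_obj D i₁ p₁
  haveI hAff₁ : ∀ (l l' : Over i₁) (a : l ⟶ l'), IsAffineHom ((pbDiagram D (𝟙 i₁) p₁).map a) :=
    fun l l' a => inferInstance
  let β₁ : pbDiagram D (𝟙 i₁) p₁ ⟶ (Functor.const (Over i₁)).obj X :=
    { app := fun l => pullback.snd p₁ (D.map (l.hom ≫ 𝟙 i₁)) ≫ β.app l.left
      naturality := fun l l' a => by
        have e0 : D.map a.left ≫ β.app l'.left = β.app l.left := by
          have := β.naturality a.left
          simpa using this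
        refine Eq.trans ?_ (Category.comp_id _).symm
        exact (pbMap_snd_assoc' D (𝟙 i₁) p₁ a (β.app l'.left)).trans
          (congrArg (fun m => pullback.snd p₁ (D.map (l.hom ≫ 𝟙 i₁)) ≫ m) e0) }
  have ht₁ : ∀ l, (pbCone D (𝟙 i₁) p₁ c q₁ g sq₁.w).π.app l ≫ β₁.app l = g ≫ t := by
    intro l
    exact (pbLift_snd_assoc' D (𝟙 i₁) p₁ c q₁ g sq₁.w l (β.app l.left)).trans
      (congrArg (fun m => g ≫ m) (ht l.left))
  obtain ⟨l, hl⟩ := @h0 (Over i₁) _ _ (pbDiagram D (𝟙 i₁) p₁)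
    (pbCone D (𝟙 i₁) p₁ c q₁ g sq₁.w) hc₁ hAff₁ hcpt₁ hqs₁ β₁ (g ≫ t) ht₁ hTS0
  refine ⟨l.left, (pbDiagram D (𝟙 i₁) p₁).obj l, pullback.snd p₁ (D.map (l.hom ≫ 𝟙 i₁)), ?_, hl⟩
  exact MorphismProperty.pullback_snd (P := QC) _ _ hQp₁

end Groth.Agent.H24.QFStrat
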