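import Mathlib
import Groth.Agent.H24.QFStrat.Lim
import Groth.Agent.S9189

/-!
# S0170 squad (helper24): `TS0 f` descends along limits
-/

set_option autoImplicit false
universe u
open CategoryTheory CategoryTheory.Limits AlgebraicGeometry
open Groth.Agent.H24 Groth.Agent.H24.RadStrat

namespace Groth.Agent.H24.QFStrat

/-- finite étale -/
def QE : MorphismProperty Scheme.{u} := fun _ _ h => IsFinite h ∧ Etale h

instance : QE.{u}.IsStableUnderBaseChange where
  of_isPullback := fun {_ _ _ _ _ _ _ _} sq hg =>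
    ⟨MorphismProperty.of_isPullback (P := @IsFinite) sq hg.1,
      MorphismProperty.of_isPullback (P := @Etale) sq hg.2⟩

instance : QE.{u}.RespectsIso := by
  haveI : QE.{u}.IsStableUnderBaseChange := inferInstance
  infer_instance

theorem stageDescent_QE : StageDescent QE.{u} :=
  stageDescent_of_descends QE (descends_and _ _ descends_isFinite' descends_etale')

theorem descends_isClosedImmersion' : Descends.{u} @IsClosedImmersion := by
  unfold Descends
  intro I _ _ D c hc _ i₀ _ _ X₀ Y₀ f₀ g₀ _ _ _ _ _ _ X Y f g qY qX hY hX hf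
  have : IsClosedImmersion f := hf
  have : LocallyOfFiniteType f₀ := locallyOfFiniteType_of_comp f₀ g₀
  have : CompactSpace Y₀ := QuasiCompact.compactSpace_of_compactSpace g₀
  have : QuasiSeparatedSpace Y₀ := quasiSeparatedSpace_of_quasiSeparated g₀
  have : CompactSpace X₀ := QuasiCompact.compactSpace_of_compactSpace (f₀ ≫ g₀)
  have : QuasiSeparatedSpace X₀ := quasiSeparatedSpace_of_quasiSeparated (f₀ ≫ g₀)
  exact Groth.Agent.S9189.result D c hc i₀ f₀ g₀ f g qY qX hY hX

/-- closed immersion and surjective -/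
def QCS : MorphismProperty Scheme.{u} := fun _ _ h => IsClosedImmersion h ∧ Surjective h

theorem descends_QCS : Descends QCS.{u} :=
  descends_and _ _ descends_isClosedImmersion' descends_surjective'

/-- (LIM0) -/
theorem TS0_lim {Y X : Scheme.{u}} (f : Y ⟶ X) [LocallyOfFinitePresentation f] [QuasiCompact f]
    [QuasiSeparated f] : LimDescentR (TS0 f) := by
  intro I _ _ D c hc _ _ _ β t ht hTS
  obtain ⟨Z, z, σ, hσ, hz1, hz2, hcl, hsur⟩ := hTS
  have hAff : ∀ {i j : I} (a : i ⟶ j), IsAffineHom (D.map a) := fun a => inferInstance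
  haveI : IsFinite z := hz1
  haveI : Etale z := hz2
  have iz1 : LocallyOfFinitePresentation z := inferInstance
  have iz2 : QuasiCompact z := inferInstance
  have iz3 : QuasiSeparated z := inferInstance
  obtain ⟨i₁, Z₁, p₁, q₁, sq₁, hp₁lfp, hp₁qc, hp₁qs, hQp₁⟩ :=
    stageDescent_QE D c hc z ⟨hz1, hz2⟩
  have : CompactSpace Z₁ := QuasiCompact.compactSpace_of_compactSpace p₁
  have : QuasiSeparatedSpace Z₁ := quasiSeparatedSpace_of_quasiSeparated p₁
  have hc₁ := isLimitPbCone D (𝟙 i₁) p₁ c hc q₁ z sq₁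
  have hcpt₁ : ∀ l, CompactSpace ((pbDiagram D (𝟙 i₁) p₁).obj l) :=
    compactSpace_pbDiagram_obj' D i₁ p₁
  have hqs₁ : ∀ l, QuasiSeparatedSpace ((pbDiagram D (𝟙 i₁) p₁).obj l) :=
    quasiSeparatedSpace_pbDiagram_obj D i₁ p₁
  have hAff₁ : ∀ {l l' : Over i₁} (a : l ⟶ l'), IsAffineHom ((pbDiagram D (𝟙 i₁) p₁).map a) :=
    fun a => inferInstance
  let β₁ : pbDiagram D (𝟙 i₁) p₁ ⟶ (Functor.const (Over i₁)).obj X :=
    { app := fun l => pullback.snd p₁ (D.map (l.hom ≫ 𝟙 i₁)) ≫ β.app l.left
      naturality := fun l l' a => by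
        have e0 : D.map a.left ≫ β.app l'.left = β.app l.left := by
          have := β.naturality a.left
          simpa using this
        refine Eq.trans ?_ (Category.comp_id _).symm
        exact (pbMap_snd_assoc' D (𝟙 i₁) p₁ a (β.app l'.left)).trans
          (congrArg (fun m => pullback.snd p₁ (D.map (l.hom ≫ 𝟙 i₁)) ≫ m) e0) }
  obtain ⟨l, σl, hσl1, hσl2⟩ := Scheme.exists_π_app_comp_eq_of_locallyOfFinitePresentation
    (pbDiagram D (𝟙 i₁) p₁) β₁ f (pbCone D (𝟙 i₁) p₁ c q₁ z sq₁.w) hc₁ σ (by
      ext l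
      show pbLift D (𝟙 i₁) p₁ c q₁ z sq₁.w l ≫
        pullback.snd p₁ (D.map (l.hom ≫ 𝟙 i₁)) ≫ β.app l.left = σ ≫ f
      exact ((pbLift_snd_assoc' D (𝟙 i₁) p₁ c q₁ z sq₁.w l (β.app l.left)).trans
        (congrArg (fun m => z ≫ m) (ht l.left))).trans hσ)
  -- notation at the stage `l`
  let Zl := (pbDiagram D (𝟙 i₁) p₁).obj l
  let zl : Zl ⟶ D.obj l.left := pullback.snd p₁ (D.map (l.hom ≫ 𝟙 i₁))
  have hσl2' : zl ≫ β.app l.left = σl ≫ f := hσl2.symm
  let cl : Zl ⟶ pullback (β.app l.left) f := pullback.lift zl σl hσl2'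
  let qX : Z ⟶ Zl := pbLift D (𝟙 i₁) p₁ c q₁ z sq₁.w l
  have hqXσ : qX ≫ σl = σ := hσl1
  have hsqZ : IsPullback qX z zl (c.π.app l.left) := isPullback_pbLift D (𝟙 i₁) p₁ c q₁ z sq₁ l
  have hQzl : QE zl := MorphismProperty.pullback_snd (P := QE) _ _ hQp₁
  -- the base change square of the bases
  let qY : pullback t f ⟶ pullback (β.app l.left) f :=
    pullback.map t f (β.app l.left) f (c.π.app l.left) (𝟙 Y) (𝟙 X)
      (by rw [Category.comp_id, ht]) (by rw [Category.comp_id, Category.id_comp])
  have hqY1 : qY ≫ pullback.fst (β.app l.left) f = pullback.fst t f ≫ c.π.app l.left :=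
    pullback.lift_fst _ _ _
  have hqY2 : qY ≫ pullback.snd (β.app l.left) f = pullback.snd t f := by
    have := pullback.lift_snd (pullback.fst t f ≫ c.π.app l.left) (pullback.snd t f ≫ 𝟙 Y)
      (by rw [Category.assoc, Category.assoc, ht, Category.id_comp, pullback.condition])
    exact this.trans (Category.comp_id _)
  have hY : IsPullback qY (pullback.fst t f) (pullback.fst (β.app l.left) f)
      (c.π.app l.left) := by
    have big : IsPullback (qY ≫ pullback.snd (β.app l.left) f) (pullback.fst t f) f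
        (c.π.app l.left ≫ β.app l.left) := by
      rw [hqY2, ht]
      exact (IsPullback.of_hasPullback t f).flip
    exact IsPullback.of_right big hqY1 (IsPullback.of_hasPullback (β.app l.left) f).flip
  have hcl1 : cl ≫ pullback.fst (β.app l.left) f = zl := pullback.lift_fst _ _ _
  have hcl2 : cl ≫ pullback.snd (β.app l.left) f = σl := pullback.lift_snd _ _ _
  have hc01 : pullback.lift z σ hσ ≫ pullback.fst t f = z := pullback.lift_fst _ _ _
  have hc02 : pullback.lift z σ hσ ≫ pullback.snd t f = σ := pullback.lift_snd _ _ _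
  have hcomm : qX ≫ cl = pullback.lift z σ hσ ≫ qY := by
    apply pullback.hom_ext
    · rw [Category.assoc, hcl1, Category.assoc, hqY1, ← Category.assoc, hc01]
      exact hsqZ.w
    · rw [Category.assoc, hcl2, Category.assoc, hqY2, hc02, hqXσ]
  have hX : IsPullback qX (pullback.lift z σ hσ) cl qY := by
    have big : IsPullback qX (pullback.lift z σ hσ ≫ pullback.fst t f)
        (cl ≫ pullback.fst (β.app l.left) f) (c.π.app l.left) := by
      rw [hc01, hcl1]
      exact hsqZ
    exact IsPullback.of_bot big hcomm hY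
  -- instances for `Descends`
  haveI : CompactSpace (D.obj l.left) := inferInstance
  haveI : QuasiSeparatedSpace (D.obj l.left) := inferInstance
  have iq1 : LocallyOfFinitePresentation (cl ≫ pullback.fst (β.app l.left) f) := by
    rw [hcl1]
    haveI : IsFinite zl := hQzl.1
    haveI : Etale zl := hQzl.2
    infer_instance
  have iq2 : QuasiCompact (cl ≫ pullback.fst (β.app l.left) f) := by
    rw [hcl1]
    haveI : IsFinite zl := hQzl.1
    infer_instance
  have iq3 : QuasiSeparated (cl ≫ pullback.fst (β.app l.left) f) := by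
    rw [hcl1]
    haveI : IsFinite zl := hQzl.1
    infer_instance
  obtain ⟨i, φ, Xi, Yi, fi, gi, pY, pX, hYi, hXi, hQi⟩ :=
    descends_QCS D c hc l.left cl (pullback.fst (β.app l.left) f) (pullback.lift z σ hσ)
      (pullback.fst t f) qY qX hY hX ⟨hcl, hsur⟩
  -- repackage
  have hβ : D.map φ ≫ β.app l.left = β.app i := by
    have := β.naturality φ
    simpa using this
  have hσi : (fi ≫ gi) ≫ β.app i = (pX ≫ σl) ≫ f := by
    rw [← hβ, Category.assoc, ← Category.assoc gi, ← hYi.w, Category.assoc,
      pullback.condition, ← Category.assoc pY, ← Category.assoc fi, ← Category.assoc fi,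
      ← hXi.w, Category.assoc, Category.assoc, ← Category.assoc cl, hcl2, Category.assoc]
  refine ⟨i, Xi, fi ≫ gi, pX ≫ σl, hσi, ?_, ?_, ?_, ?_⟩
  · have big : IsPullback pX (fi ≫ gi) (cl ≫ pullback.fst (β.app l.left) f) (D.map φ) :=
      hXi.paste_vert hYi
    rw [hcl1] at big
    exact (MorphismProperty.of_isPullback (P := QE) big hQzl).1
  · have big : IsPullback pX (fi ≫ gi) (cl ≫ pullback.fst (β.app l.left) f) (D.map φ) :=
      hXi.paste_vert hYi
    rw [hcl1] at big
    exact (MorphismProperty.of_isPullback (P := QE) big hQzl).2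
  all_goals
    have hYi' : IsPullback gi (pY ≫ pullback.snd (β.app l.left) f) (β.app i) f := by
      have h1 : IsPullback (pY ≫ pullback.snd (β.app l.left) f) gi f
          (D.map φ ≫ β.app l.left) :=
        hYi.paste_horiz (IsPullback.of_hasPullback (β.app l.left) f).flip
      rw [hβ] at h1
      exact h1.flip
    have hL : pullback.lift (fi ≫ gi) (pX ≫ σl) hσi = fi ≫ hYi'.isoPullback.hom := by
      apply pullback.hom_ext
      · rw [pullback.lift_fst, Category.assoc, IsPullback.isoPullback_hom_fst]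
      · rw [pullback.lift_snd, Category.assoc, IsPullback.isoPullback_hom_snd,
          ← Category.assoc, ← hXi.w, Category.assoc, hcl2]
    rw [hL]
  · haveI : IsClosedImmersion fi := hQi.1
    infer_instance
  · haveI : Surjective fi := hQi.2
    infer_instance

end Groth.Agent.H24.QFStrat
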