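import Mathlib
import Groth.Agent.H24.QFStrat.Gen
import Groth.Agent.H24.QFStrat.Lim0
import Groth.Agent.H24.RadStrat.Main

/-!
# S0170 squad (helper24): the main theorem, with the provider pieces as hypotheses
-/

set_option autoImplicit false
universe u
open CategoryTheory CategoryTheory.Limits AlgebraicGeometry TopologicalSpace Topology
open Groth.Agent.H24 Groth.Agent.H24.RadStrat

namespace Groth.Agent.H24.QFStrat

theorem main_of {Y X : Scheme.{u}} [IsAffine X] [IsAffine Y] (f : Y ⟶ X)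
    [LocallyQuasiFinite f] [LocallyOfFinitePresentation f]
    (hBC : ∀ ⦃W V : Scheme.{u}⦄ (w : W ⟶ X) (k : V ⟶ W), TS f w → TS f (k ≫ w))
    (hPT : ∀ x : X, TS f (X.fromSpecResidueField x))
    (hCOP : ∀ (m : ℕ) (T : Fin m → Scheme.{u}) (e : ∀ i, T i ⟶ X), (∀ i, IsAffine (T i)) →
      (⋃ i, Set.range (e i)) = Set.univ → (∀ i, TS f (e i)) →
      ∃ (X' : Scheme.{u}) (_ : IsAffine X') (a : X' ⟶ X) (_ : Surjective a) (Z' : Scheme.{u})
        (c : Z' ⟶ pullback a f) (_ : IsClosedImmersion c) (_ : Surjective c),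
        IsFinite (c ≫ pullback.fst a f) ∧ Etale (c ≫ pullback.fst a f)) :
    ∃ (X' : Scheme.{u}) (_ : IsAffine X') (a : X' ⟶ X) (_ : Surjective a) (Z' : Scheme.{u})
      (c : Z' ⟶ pullback a f) (_ : IsClosedImmersion c) (_ : Surjective c),
      IsFinite (c ≫ pullback.fst a f) ∧ Etale (c ≫ pullback.fst a f) := by
  haveI : QuasiCompact f := inferInstance
  haveI : QuasiSeparated f := inferInstance
  obtain ⟨m, T, e, h1, -, hcov, hTS⟩ := exists_strata_gen (Y := X) (TS f) hPT hBC
    (TS_lim_of f (TS0_lim f)) affStrata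
  exact hCOP m T e (fun i => (h1 i).1) hcov hTS

end Groth.Agent.H24.QFStrat
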