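import Mathlib
import Groth.Agent.H24.QFStrat.Lim0
import Groth.Agent.H24.FGSubLimit

/-!
# S0170 squad (helper24): (PT1) via the algebraic closure and limit descent
-/

set_option autoImplicit false
universe u
open CategoryTheory CategoryTheory.Limits AlgebraicGeometry
open Groth.Agent.H24 Groth.Agent.H24.RadStrat

namespace Groth.Agent.H24.QFStrat

attribute [local instance] IsArtinianRing.fieldOfSubtypeIsMaximal in
/-- a reduced finite algebra over an algebraically closed field is étale -/
theorem etale_of_isReduced_of_isAlgClosed (Ω B : Type u) [Field Ω] [IsAlgClosed Ω] [CommRing B]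
    [Algebra Ω B] [Module.Finite Ω B] [IsReduced B] : Algebra.Etale Ω B := by
  have : IsArtinianRing B := isArtinian_of_tower Ω inferInstance
  rw [Algebra.Etale.iff_exists_algEquiv_prod]
  exact ⟨_, inferInstance, _, _, _, (IsArtinianRing.equivPi B).restrictScalars Ω,
    fun m => ⟨inferInstance, inferInstance⟩⟩

theorem surjective_spec_quotient_nilradical (B : CommRingCat.{u}) :
    Surjective (Spec.map (CommRingCat.ofHom (Ideal.Quotient.mk (nilradical B)))) := by
  constructor
  intro x
  have hr : x ∈ Set.range (PrimeSpectrum.comap (Ideal.Quotient.mk (nilradical B))) := by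
    rw [_root_.range_comap_of_surjective _ _ Ideal.Quotient.mk_surjective, Ideal.mk_ker]
    exact nilradical_le_prime x.asIdeal
  obtain ⟨y, hy⟩ := hr
  exact ⟨y, hy⟩

/-- the datum over an algebraically closed field -/
theorem TS0_of_isAlgClosed {K Ω : Type u} [Field K] [Field Ω] [IsAlgClosed Ω] (φ : K →+* Ω)
    {V : Scheme.{u}} (p : V ⟶ Spec (CommRingCat.of K)) [IsFinite p] :
    TS0 p (Spec.map (CommRingCat.ofHom φ)) := by
  let t := Spec.map (CommRingCat.ofHom φ)
  let W := pullback t p
  let q : W ⟶ Spec (CommRingCat.of Ω) := pullback.fst t p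
  haveI : IsFinite q := inferInstance
  haveI : IsAffine W := isAffine_of_isAffineHom q
  obtain ⟨ψ, hψ⟩ := Spec.map_surjective (W.isoSpec.inv ≫ q)
  let B : CommRingCat.{u} := Γ(W, ⊤)
  let π : B ⟶ CommRingCat.of (B ⧸ nilradical B) :=
    CommRingCat.ofHom (Ideal.Quotient.mk (nilradical B))
  have hι : IsClosedImmersion (Spec.map π) :=
    IsClosedImmersion.spec_of_surjective π Ideal.Quotient.mk_surjective
  have hιs : Surjective (Spec.map π) := surjective_spec_quotient_nilradical B
  let c₀ : Spec (CommRingCat.of (B ⧸ nilradical B)) ⟶ W := Spec.map π ≫ W.isoSpec.inv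
  have hσ : (c₀ ≫ q) ≫ t = (c₀ ≫ pullback.snd t p) ≫ p :=
    (Category.assoc _ _ _).trans ((congrArg (fun m => c₀ ≫ m) pullback.condition).trans
      (Category.assoc _ _ _).symm)
  have hlift : pullback.lift (c₀ ≫ q) (c₀ ≫ pullback.snd t p) hσ = c₀ := by
    apply pullback.hom_ext
    · rw [pullback.lift_fst]
    · rw [pullback.lift_snd]
  have hfin : IsFinite (c₀ ≫ q) := inferInstance
  have heq : c₀ ≫ q = Spec.map (ψ ≫ π) := by
    rw [Spec.map_comp, hψ, Category.assoc]
  refine ⟨_, c₀ ≫ q, c₀ ≫ pullback.snd t p, hσ, hfin, ?_, ?_, ?_⟩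
  · rw [heq, HasRingHomProperty.Spec_iff (P := @Etale)]
    have hfin' : IsFinite (Spec.map (ψ ≫ π)) := heq ▸ hfin
    rw [IsFinite.SpecMap_iff] at hfin'
    letI : Algebra Ω (B ⧸ nilradical B) := (ψ ≫ π).hom.toAlgebra
    haveI : Module.Finite Ω (B ⧸ nilradical B) := hfin'
    haveI : IsReduced (B ⧸ nilradical B) :=
      (Ideal.isRadical_iff_quotient_reduced _).mp (Ideal.radical_isRadical _)
    exact etale_of_isReduced_of_isAlgClosed Ω (B ⧸ nilradical B)
  · rw [hlift]
    infer_instance
  · rw [hlift]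
    infer_instance

/-- (PT1) -/
theorem exists_finite_ext_red_etale {K : Type u} [Field K] {V : Scheme.{u}}
    (p : V ⟶ Spec (CommRingCat.of K)) [IsFinite p] :
    ∃ (L : Type u) (_ : Field L) (φ : K →+* L), φ.Finite ∧
      ∃ (Z : Scheme.{u}) (c : Z ⟶ pullback (Spec.map (CommRingCat.ofHom φ)) p),
        IsClosedImmersion c ∧ Surjective c ∧
          IsFinite (c ≫ pullback.fst (Spec.map (CommRingCat.ofHom φ)) p) ∧
          Etale (c ≫ pullback.fst (Spec.map (CommRingCat.ofHom φ)) p) := by
  let Ω := AlgebraicClosure K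
  have h0 : TS0 p (Spec.map (CommRingCat.ofHom (algebraMap K Ω))) :=
    TS0_of_isAlgClosed (algebraMap K Ω) p
  haveI : ∀ i, CompactSpace ((fgSpecDiagram K Ω).obj i) := fun i => inferInstance
  haveI : ∀ i, QuasiSeparatedSpace ((fgSpecDiagram K Ω).obj i) := fun i => inferInstance
  haveI : ∀ (i j : (FGSub K Ω)ᵒᵖ) (a : i ⟶ j), IsAffineHom ((fgSpecDiagram K Ω).map a) :=
    fun i j a => inferInstance
  obtain ⟨E, hE⟩ := TS0_lim p (fgSpecDiagram K Ω) (fgSpecCone K Ω) (fgSpecConeIsLimit K Ω)
    (fgSpecDiagramβ K Ω) (Spec.map (CommRingCat.ofHom (algebraMap K Ω)))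
    (fun i => fgSpecCone_π_β K Ω i) h0
  obtain ⟨Z, z, σ, hσ, hz1, hz2, hcl, hsur⟩ := hE
  have hfield : IsField E.unop.1 := Subalgebra.isField_of_algebraic E.unop.1
  letI : Field E.unop.1 := hfield.toField
  haveI : Algebra.FiniteType K E.unop.1 := (Subalgebra.fg_iff_finiteType _).mp E.unop.2
  haveI : Algebra.IsIntegral K E.unop.1 :=
    Algebra.IsIntegral.of_injective (E.unop.1.val) Subtype.val_injective
  have hfin : (algebraMap K E.unop.1).Finite := by
    have : Module.Finite K E.unop.1 := Algebra.IsIntegral.finite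
    exact RingHom.finite_algebraMap.mpr this
  refine ⟨E.unop.1, inferInstance, algebraMap K E.unop.1, hfin, Z,
    pullback.lift z σ hσ, hcl, hsur, ?_, ?_⟩
  · have e : pullback.lift z σ hσ ≫ pullback.fst ((fgSpecDiagramβ K Ω).app E) p = z :=
      pullback.lift_fst _ _ _
    show IsFinite (pullback.lift z σ hσ ≫ pullback.fst ((fgSpecDiagramβ K Ω).app E) p)
    rw [e]
    exact hz1
  · have e : pullback.lift z σ hσ ≫ pullback.fst ((fgSpecDiagramβ K Ω).app E) p = z :=
      pullback.lift_fst _ _ _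
    show Etale (pullback.lift z σ hσ ≫ pullback.fst ((fgSpecDiagramβ K Ω).app E) p)
    rw [e]
    exact hz2

end Groth.Agent.H24.QFStrat
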