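import Mathlib
import Groth.Agent.H24.QFStrat.MainOf
import Groth.Agent.H24.QFStrat.PT1
import Groth.Agent.H89.QFStrat_BC
import Groth.Agent.H9.QFStrat_PT

/-!
# S0170 squad (helper24): the main theorem, with only the coproduct assembly as a hypothesis
-/

set_option autoImplicit false
universe u
open CategoryTheory CategoryTheory.Limits AlgebraicGeometry TopologicalSpace Topology
open Groth.Agent.H24 Groth.Agent.H24.RadStrat

namespace Groth.Agent.H24.QFStrat

theorem TS_point {Y X : Scheme.{u}} (f : Y ⟶ X) [LocallyOfFiniteType f] [LocallyQuasiFinite f]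
    [QuasiCompact f] (x : X) : TS f (X.fromSpecResidueField x) :=
  Groth.Agent.H9.QFStrat_PT.TS_point_of (fun p => exists_finite_ext_red_etale p) f x

theorem main_of_cop {Y X : Scheme.{u}} [IsAffine X] [IsAffine Y] (f : Y ⟶ X)
    [LocallyQuasiFinite f] [LocallyOfFinitePresentation f]
    (hCOP : ∀ (m : ℕ) (T : Fin m → Scheme.{u}) (e : ∀ i, T i ⟶ X), (∀ i, IsAffine (T i)) →
      (⋃ i, Set.range (e i)) = Set.univ → (∀ i, TS f (e i)) →
      ∃ (X' : Scheme.{u}) (_ : IsAffine X') (a : X' ⟶ X) (_ : Surjective a) (Z' : Scheme.{u})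
        (c : Z' ⟶ pullback a f) (_ : IsClosedImmersion c) (_ : Surjective c),
        IsFinite (c ≫ pullback.fst a f) ∧ Etale (c ≫ pullback.fst a f)) :
    ∃ (X' : Scheme.{u}) (_ : IsAffine X') (a : X' ⟶ X) (_ : Surjective a) (Z' : Scheme.{u})
      (c : Z' ⟶ pullback a f) (_ : IsClosedImmersion c) (_ : Surjective c),
      IsFinite (c ≫ pullback.fst a f) ∧ Etale (c ≫ pullback.fst a f) := by
  haveI : QuasiCompact f := inferInstance
  exact main_of f (fun _ _ w k h => Groth.Agent.H89.QFStrat_BC.TS_comp f w k h)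
    (fun x => TS_point f x) hCOP

end Groth.Agent.H24.QFStrat
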